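import Cfsg.Agent.FGS77.SubSp.Ops
import Cfsg.Agent.Lib.Dickson.Main
import Cfsg.Agent.Lib.LinearGroup.Card
import Cfsg.Agent.PLocalB.Dickson

/-!
Subgroups of `SL₂(F)` containing the upper transvections over a subfield and a lower one outside it
(helper77).
-/

set_option autoImplicit false
set_option linter.unusedSectionVars false

namespace Cfsg.Agent.FGS77.SubSp

open Matrix Cfsg.Agent.MaxSub
open scoped MatrixGroups

section Embed

variable {ι : Type} [Fintype ι] [DecidableEq ι] {F : Type*} [Field F]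
variable {f : (ι → F) → (ι → F) → F} (hf : Geo.IsSymplecticForm f)

/-- The action of a `2 × 2` matrix on the plane spanned by `w₁`, `w₂`. -/
noncomputable def planeMat (w₁ w₂ : ι → F) (A : Matrix (Fin 2) (Fin 2) F) :
    (ι → F) →ₗ[F] (ι → F) :=
  LinearMap.id + ((A 0 0 - 1) • lmap hf.bilinear w₂ + A 0 1 • rmap hf.bilinear w₁).smulRight w₁ +
    (A 1 0 • lmap hf.bilinear w₂ + (A 1 1 - 1) • rmap hf.bilinear w₁).smulRight w₂

theorem planeMat_apply (w₁ w₂ : ι → F) (A : Matrix (Fin 2) (Fin 2) F) (x : ι → F) :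
    planeMat hf w₁ w₂ A x = x + ((A 0 0 - 1) * f x w₂ + A 0 1 * f w₁ x) • w₁ +
      (A 1 0 * f x w₂ + (A 1 1 - 1) * f w₁ x) • w₂ := by
  simp [planeMat]

/-- `SL₂` acting on a hyperbolic plane. -/
noncomputable def planeHom {w₁ w₂ : ι → F} (h : f w₁ w₂ = 1) : SL(2, F) →* GL ι F :=
  MonoidHom.toHomUnits
    { toFun := fun A => LinearMap.toMatrix' (planeMat hf w₁ w₂ (A : Matrix (Fin 2) (Fin 2) F))
      map_one' := by
        rw [← LinearMap.toMatrix'_id]
        congr 1
        refine LinearMap.ext fun x => ?_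
        simp [planeMat_apply]
      map_mul' := fun A B => by
        rw [← LinearMap.toMatrix'_comp]
        congr 1
        refine LinearMap.ext fun x => ?_
        simp only [LinearMap.comp_apply, planeMat_apply, Matrix.SpecialLinearGroup.coe_mul,
          Matrix.mul_apply, Fin.sum_univ_two, hf.bilinear.add_left, hf.bilinear.add_right,
          hf.bilinear.smul_left, hf.bilinear.smul_right, hf.alternating, h]
        module }

theorem planeHom_mulVec {w₁ w₂ : ι → F} (h : f w₁ w₂ = 1) (A : SL(2, F)) (x : ι → F) :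
    (planeHom hf h A : Matrix ι ι F) *ᵥ x = planeMat hf w₁ w₂ (A : Matrix (Fin 2) (Fin 2) F) x :=
  LinearMap.toMatrix'_mulVec _ _

theorem planeHom_upper {w₁ w₂ : ι → F} (h : f w₁ w₂ = 1) (c : F) :
    planeHom hf h (PLocalB.upper c) = st f w₁ (-c) := by
  refine gl_ext fun x => ?_
  rw [planeHom_mulVec, planeMat_apply, st_mulVec hf, hf.skew w₁ x]
  simp

theorem planeHom_lower {w₁ w₂ : ι → F} (h : f w₁ w₂ = 1) (c : F) :
    planeHom hf h (PLocalB.lower c) = st f w₂ c := by
  refine gl_ext fun x => ?_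
  rw [planeHom_mulVec, planeMat_apply, st_mulVec hf]
  simp

end Embed

section Dickson

open scoped Classical

attribute [local instance] PLocalB.lineAction Dickson.pslLine

variable {F : Type*} [Field F] [Fintype F]

theorem lower_mul_lower (a b : F) :
    PLocalB.lower a * PLocalB.lower b = PLocalB.lower (a + b) := by
  ext i j
  fin_cases i <;> fin_cases j <;> simp [Matrix.mul_apply, Fin.sum_univ_two]

set_option maxRecDepth 20000 in
private theorem perm_five : ∀ σ : alternatingGroup (Fin 5), σ ^ 2 = 1 ∨ σ ^ 3 = 1 ∨ σ ^ 5 = 1 := by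
  decide

set_option maxRecDepth 20000 in
private theorem perm_four : ∀ σ : Equiv.Perm (Fin 4), σ ^ 2 = 1 ∨ σ ^ 3 = 1 ∨ σ ^ 4 = 1 := by
  decide

private theorem alt_four : ∀ σ : alternatingGroup (Fin 4), σ ^ 2 = 1 ∨ σ ^ 3 = 1 := by
  decide

theorem pow_eq_one_of_equiv {G K : Type*} [Group G] [Group K] (e : G ≃* K) {g : G} {n : ℕ}
    (h : e g ^ n = 1) : g ^ n = 1 :=
  e.injective (by rw [map_pow, h, map_one])

/-- A lift of a product `x y` whose image has order at most five has trace of degree at most two. -/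
theorem trace_quadratic {b : F} {k : ℕ} (hk : k = 2 ∨ k = 3 ∨ k = 4 ∨ k = 5)
    (h : ((PLocalB.upper (1 : F) * PLocalB.lower b) ^ k) 0 1 = 0) :
    (2 + b = 0) ∨ (2 + b) ^ 2 = 1 ∨ (2 + b) ^ 2 = 2 ∨ (2 + b) ^ 2 + (2 + b) - 1 = 0 ∨
      (2 + b) ^ 2 - (2 + b) - 1 = 0 := by
  rcases hk with rfl | rfl | rfl | rfl <;>
    simp [pow_succ, Matrix.mul_apply, Fin.sum_univ_two] at h
  · exact Or.inl (by linear_combination h)
  · exact Or.inr (Or.inl (by linear_combination h))
  · rcases mul_eq_zero.mp (show (2 + b) * ((2 + b) ^ 2 - 2) = 0 by linear_combination h) with e | e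
    · exact Or.inl e
    · exact Or.inr (Or.inr (Or.inl (by linear_combination e)))
  · rcases mul_eq_zero.mp (show ((2 + b) ^ 2 + (2 + b) - 1) * ((2 + b) ^ 2 - (2 + b) - 1) = 0 by
      linear_combination h) with e | e
    · exact Or.inr (Or.inr (Or.inr (Or.inl e)))
    · exact Or.inr (Or.inr (Or.inr (Or.inr e)))

theorem trace_sq_mem_of_range {T : Subfield F} {A : SL(2, F)}
    {D : Matrix.ProjGenLinGroup (Fin 2) F}
    (h : D⁻¹ * Matrix.ProjectiveSpecialLinearGroup.toPGL (QuotientGroup.mk A) * D ∈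
      (Matrix.ProjGenLinGroup.map (n := Fin 2) T.subtype).range) :
    Matrix.trace (A : Matrix (Fin 2) (Fin 2) F) ^ 2 ∈ T := by
  obtain ⟨D, rfl⟩ := Matrix.ProjGenLinGroup.mk_surjective D
  obtain ⟨β, hβ⟩ := h
  obtain ⟨B, rfl⟩ := Matrix.ProjGenLinGroup.mk_surjective β
  rw [Matrix.ProjGenLinGroup.map_mk] at hβ
  have h1 : Matrix.ProjGenLinGroup.mk ((Matrix.GeneralLinearGroup.map T.subtype B)⁻¹ *
      (D⁻¹ * Matrix.SpecialLinearGroup.toGL A * D)) = 1 := by
    rw [map_mul, map_inv, hβ, map_mul, map_mul, map_inv]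
    exact inv_mul_cancel _
  rw [Matrix.ProjGenLinGroup.mk_eq_one, Matrix.GeneralLinearGroup.center_eq_range_scalar] at h1
  obtain ⟨s, hs⟩ := h1
  rw [eq_inv_mul_iff_mul_eq] at hs
  set BF : Matrix (Fin 2) (Fin 2) F := (B : Matrix (Fin 2) (Fin 2) T).map T.subtype
  have hm : ((D⁻¹ : GL (Fin 2) F) : Matrix (Fin 2) (Fin 2) F) * (A : Matrix (Fin 2) (Fin 2) F) *
      (D : Matrix (Fin 2) (Fin 2) F) = (s : F) • BF := by
    have := congrArg (fun g : GL (Fin 2) F => (g : Matrix (Fin 2) (Fin 2) F)) hs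
    simp only [Units.val_mul, Matrix.GeneralLinearGroup.coe_scalar] at this
    rw [Matrix.smul_eq_mul_diagonal]
    exact this.symm
  have htr : Matrix.trace (A : Matrix (Fin 2) (Fin 2) F) = (s : F) * Matrix.trace BF := by
    rw [← smul_eq_mul, ← Matrix.trace_smul, ← hm, Matrix.trace_mul_comm, ← mul_assoc,
      ← Units.val_mul, mul_inv_cancel, Units.val_one, one_mul]
  have hdet : (s : F) ^ 2 * BF.det = 1 := by
    have := congrArg Matrix.det hm
    rw [Matrix.det_smul, Fintype.card_fin, Matrix.det_units_conj', A.2] at this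
    exact this.symm
  have htrB : Matrix.trace BF ∈ T := by
    rw [Matrix.trace_fin_two]; exact add_mem (SetLike.coe_mem _) (SetLike.coe_mem _)
  have hdB : BF.det ∈ T := by
    rw [Matrix.det_fin_two]
    exact sub_mem (mul_mem (SetLike.coe_mem _) (SetLike.coe_mem _))
      (mul_mem (SetLike.coe_mem _) (SetLike.coe_mem _))
  rw [htr, mul_pow, eq_inv_of_mul_eq_one_left hdet]
  exact mul_mem (inv_mem hdB) (pow_mem htrB 2)

/-- The lemma of Dickson type: such a subgroup has all lower transvections. -/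
theorem lower_mem_all (p : ℕ) [Fact p.Prime] [CharP F p] (hp : p ≠ 2) (F₀ : Subfield F)
    (hquad : ∀ t u w : F, u ∈ F₀ → w ∈ F₀ → t ^ 2 + u * t + w = 0 → t ∈ F₀)
    (hmax : ∀ T : Subfield F, F₀ ≤ T → T = F₀ ∨ T = ⊤) {b : F} (hb : b ∉ F₀)
    (S : Subgroup SL(2, F)) (hu : ∀ s ∈ F₀, PLocalB.upper s ∈ S)
    (hl : ∀ s ∈ F₀, PLocalB.lower (b * s) ∈ S) : ∀ c, PLocalB.lower c ∈ S := by
  have hpr : p.Prime := Fact.out
  have h2 : (2 : F) ≠ 0 := PLocalB.two_ne_zero_char (p := p) hp
  have hb0 : b ≠ 0 := fun h => hb (h ▸ zero_mem _)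
  let H : Subgroup (Dickson.PSL2 F) := S.map (QuotientGroup.mk' _)
  have hmk : ∀ A ∈ S, (QuotientGroup.mk A : Dickson.PSL2 F) ∈ H := fun A hA =>
    Subgroup.mem_map_of_mem _ hA
  have hx : (QuotientGroup.mk (PLocalB.upper (1 : F)) : Dickson.PSL2 F) ∈ H :=
    hmk _ (hu 1 (one_mem _))
  have hy : (QuotientGroup.mk (PLocalB.lower b) : Dickson.PSL2 F) ∈ H :=
    hmk _ (by simpa using hl 1 (one_mem _))
  have hyi : (PLocalB.lower b)⁻¹ = PLocalB.lower (-b) :=
    inv_eq_of_mul_eq_one_right (by rw [lower_mul_lower, add_neg_cancel]; ext i j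
                                   fin_cases i <;> fin_cases j <;> simp)
  let C : SL(2, F) := PLocalB.upper (1 : F) * PLocalB.lower b * (PLocalB.upper (1 : F))⁻¹ *
    (PLocalB.lower b)⁻¹
  have hC : C ∉ Subgroup.center SL(2, F) := fun h => by
    have h01 : C 0 1 = 0 := by
      obtain ⟨r, -, hr⟩ := Matrix.SpecialLinearGroup.mem_center_iff.mp h
      rw [← hr]; simp
    simp [C, hyi, PLocalB.upper_inv, Matrix.mul_apply, Fin.sum_univ_two] at h01
    exact hb0 h01
  have hncomm : (QuotientGroup.mk (PLocalB.upper (1 : F)) : Dickson.PSL2 F) *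
      QuotientGroup.mk (PLocalB.lower b) ≠
      QuotientGroup.mk (PLocalB.lower b) * QuotientGroup.mk (PLocalB.upper (1 : F)) := fun e => by
    refine hC ((QuotientGroup.eq_one_iff _).mp ?_)
    simp only [C, QuotientGroup.mk_mul, QuotientGroup.mk_inv, e]
    group
  have hup : ∀ a : F, PLocalB.upper a ^ p = 1 := fun a => by
    rw [PLocalB.upper_pow, CharP.cast_eq_zero, zero_mul, PLocalB.upper_zero]
  have hlp : ∀ a : F, PLocalB.lower a ^ p = 1 := fun a => by
    rw [PLocalB.lower_pow, CharP.cast_eq_zero, zero_mul]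
    ext i j
    fin_cases i <;> fin_cases j <;> simp
  have small : ∀ k : ℕ, (k = 2 ∨ k = 3 ∨ k = 4 ∨ k = 5) →
      (QuotientGroup.mk (PLocalB.upper (1 : F) * PLocalB.lower b) : Dickson.PSL2 F) ^ k = 1 →
      False := by
    intro k hk he
    rw [← QuotientGroup.mk_pow, QuotientGroup.eq_one_iff] at he
    have h01 : ((PLocalB.upper (1 : F) * PLocalB.lower b) ^ k) 0 1 = 0 := by
      obtain ⟨r, -, hr⟩ := Matrix.SpecialLinearGroup.mem_center_iff.mp he
      rw [← hr]; simp
    have ht : 2 + b ∈ F₀ := by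
      rcases trace_quadratic hk h01 with e | e | e | e | e
      · rw [e]; exact zero_mem _
      · exact hquad _ 0 (-1) (zero_mem _) (neg_mem (one_mem _)) (by linear_combination e)
      · exact hquad _ 0 (-2) (zero_mem _) (neg_mem (ofNat_mem F₀ 2)) (by linear_combination e)
      · exact hquad _ 1 (-1) (one_mem _) (neg_mem (one_mem _)) (by linear_combination e)
      · exact hquad _ (-1) (-1) (neg_mem (one_mem _)) (neg_mem (one_mem _))
          (by linear_combination e)
    exact hb (by simpa using sub_mem ht (ofNat_mem F₀ 2))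
  have hxy : (QuotientGroup.mk (PLocalB.upper (1 : F) * PLocalB.lower b) : Dickson.PSL2 F) ∈ H := by
    rw [QuotientGroup.mk_mul]; exact mul_mem hx hy
  suffices hH : H = ⊤ by
    intro c
    obtain ⟨A, hA, hAc⟩ := (show (QuotientGroup.mk (PLocalB.lower (c / 2)) : Dickson.PSL2 F) ∈ H
      from hH ▸ Subgroup.mem_top _)
    have hz : A⁻¹ * PLocalB.lower (c / 2) ∈ Subgroup.center SL(2, F) :=
      (QuotientGroup.eq).mp hAc
    obtain ⟨z, hz, hAz⟩ : ∃ z ∈ Subgroup.center SL(2, F), A * z = PLocalB.lower (c / 2) :=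
      ⟨_, hz, mul_inv_cancel_left _ _⟩
    have hz2 : z * z = 1 := by
      obtain ⟨r, hr, hrz⟩ := Matrix.SpecialLinearGroup.mem_center_iff.mp hz
      refine Subtype.ext ?_
      rw [Matrix.SpecialLinearGroup.coe_mul, Matrix.SpecialLinearGroup.coe_one, ← hrz, ← map_mul,
        ← sq, show r ^ 2 = 1 by simpa using hr, map_one]
    haveI : NeZero (2 : F) := ⟨h2⟩
    have : A * A = PLocalB.lower c := by
      calc A * A = A * A * (z * z) := by rw [hz2, mul_one]
        _ = A * ((A * z) * z) := by simp only [mul_assoc]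
        _ = A * z * (A * z) := by
          rw [Subgroup.mem_center_iff.mp hz (A * z), ← mul_assoc]
        _ = _ := by rw [hAz, lower_mul_lower, add_halves]
    exact this ▸ mul_mem hA hA
  rcases Dickson.kind' p H with ⟨k, -, hcyc, -⟩ | ⟨t, ht⟩ | ⟨n, -, -, ⟨e⟩⟩ | ⟨⟨e⟩⟩ | ⟨⟨e⟩⟩ |
    ⟨⟨e⟩⟩ | ⟨T, hT⟩
  · exfalso
    obtain ⟨g, hg⟩ := hcyc.exists_generator
    obtain ⟨i, hi⟩ := hg ⟨_, hx⟩
    obtain ⟨i', hi'⟩ := hg ⟨_, hy⟩
    have hc : (⟨_, hx⟩ : H) * ⟨_, hy⟩ = ⟨_, hy⟩ * ⟨_, hx⟩ := by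
      rw [← hi, ← hi']; exact (Commute.zpow_zpow_self g i i').eq
    exact hncomm (congrArg Subtype.val hc)
  · exfalso
    obtain ⟨T, rfl⟩ := QuotientGroup.mk_surjective t
    have hup' : ∀ A ∈ S, (T * A * T⁻¹ : SL(2, F)) 1 0 = 0 := fun A hA =>
      (PLocalB.smul_infty_iff _).mp (by
        have := ht _ (hmk A hA)
        rwa [← QuotientGroup.mk_mul, ← QuotientGroup.mk_inv, ← QuotientGroup.mk_mul,
          Dickson.mk_smul] at this)
    let X := T * PLocalB.upper (1 : F) * T⁻¹
    let Y := T * PLocalB.lower b * T⁻¹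
    have hX : X 1 0 = 0 := hup' _ (hu 1 (one_mem _))
    have hY : Y 1 0 = 0 := hup' _ (by simpa using hl 1 (one_mem _))
    have hdX := X.2
    have hdY := Y.2
    rw [Matrix.det_fin_two, hX, mul_zero, sub_zero] at hdX
    rw [Matrix.det_fin_two, hY, mul_zero, sub_zero] at hdY
    have htr : Matrix.trace ((X * Y * X⁻¹ * Y⁻¹ : SL(2, F)) : Matrix (Fin 2) (Fin 2) F) = 2 := by
      simp only [Matrix.SpecialLinearGroup.coe_mul, Matrix.SpecialLinearGroup.coe_inv,
        Matrix.adjugate_fin_two, Matrix.trace_fin_two, Matrix.mul_apply, Fin.sum_univ_two]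
      simp [hX, hY]
      linear_combination (2 * (Y 0 0 * Y 1 1)) * hdX + 2 * hdY
    have hconj : X * Y * X⁻¹ * Y⁻¹ = T * C * T⁻¹ := by simp only [X, Y, C]; group
    rw [hconj, Matrix.SpecialLinearGroup.coe_mul, Matrix.trace_mul_comm,
      ← Matrix.SpecialLinearGroup.coe_mul, inv_mul_cancel_left] at htr
    simp [C, hyi, PLocalB.upper_inv, Matrix.mul_apply, Matrix.trace_fin_two,
      Fin.sum_univ_two] at htr
    exact hb0 (pow_eq_zero_iff two_ne_zero |>.mp (show b ^ 2 = 0 by linear_combination htr))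
  · exfalso
    have hrot : ∀ g : H, g ^ p = 1 → ∃ i, e g = DihedralGroup.r i := fun g hg => by
      rcases h : e g with i | i
      · exact ⟨i, rfl⟩
      · exfalso
        have h1 : e g ^ p = 1 := by rw [← map_pow, hg, map_one]
        obtain ⟨m, hm⟩ := hpr.odd_of_ne_two hp
        rw [h, hm, pow_succ, pow_mul, sq, DihedralGroup.sr_mul_self, one_pow, one_mul] at h1
        exact nomatch h1.trans DihedralGroup.one_def
    have hxp : (⟨_, hx⟩ : H) ^ p = 1 := Subtype.ext (by
      rw [SubmonoidClass.coe_pow, ← QuotientGroup.mk_pow, hup]; rfl)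
    have hyp : (⟨_, hy⟩ : H) ^ p = 1 := Subtype.ext (by
      rw [SubmonoidClass.coe_pow, ← QuotientGroup.mk_pow, hlp]; rfl)
    obtain ⟨i, hi⟩ := hrot _ hxp
    obtain ⟨i', hi'⟩ := hrot _ hyp
    refine hncomm (congrArg Subtype.val (e.injective (a₁ := ⟨_, hx⟩ * ⟨_, hy⟩)
      (a₂ := ⟨_, hy⟩ * ⟨_, hx⟩) ?_))
    rw [map_mul, map_mul, hi, hi', DihedralGroup.r_mul_r, DihedralGroup.r_mul_r, add_comm]
  · exfalso
    rcases alt_four (e ⟨_, hxy⟩) with h | h <;>
      exact small _ (by norm_num) (congrArg Subtype.val (pow_eq_one_of_equiv e h))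
  · exfalso
    rcases perm_four (e ⟨_, hxy⟩) with h | h | h <;>
      exact small _ (by norm_num) (congrArg Subtype.val (pow_eq_one_of_equiv e h))
  · exfalso
    rcases perm_five (e ⟨_, hxy⟩) with h | h | h <;>
      exact small _ (by norm_num) (congrArg Subtype.val (pow_eq_one_of_equiv e h))
  · obtain ⟨-, -, hiso, -, D, hD⟩ := hT
    have htr : ∀ s ∈ F₀, (2 + b * s) ^ 2 ∈ T := fun s hs => by
      have := trace_sq_mem_of_range
        (hD _ (hmk _ (mul_mem (hu 1 (one_mem _)) (hl s hs))))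
      simp [Matrix.trace_fin_two, Matrix.mul_apply, Fin.sum_univ_two] at this
      convert this using 1
      ring
    have hbs : ∀ s ∈ F₀, b * s ∈ T := fun s hs => by
      have h8 : (8 : F) ≠ 0 := by
        rw [show (8 : F) = 2 ^ 3 by norm_num]; exact pow_ne_zero _ h2
      have := div_mem (sub_mem (htr s hs) (htr (-s) (neg_mem hs))) (ofNat_mem T 8)
      rw [show (2 + b * s) ^ 2 - (2 + b * -s) ^ 2 = b * s * 8 by ring, mul_div_cancel_right₀ _ h8]
        at this
      exact this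
    have hbT : b ∈ T := by simpa using hbs 1 (one_mem _)
    have hle : F₀ ≤ T := fun s hs => by
      simpa [hb0] using div_mem (hbs s hs) hbT
    have hTtop : T = ⊤ := (hmax T hle).resolve_left fun h => hb (h ▸ hbT)
    have hcT : Nat.card T = Nat.card F := by rw [hTtop]; exact Nat.card_congr Subfield.topEquiv.toEquiv
    have hcard : Nat.card (Dickson.PSL2 F) =
        Nat.card (Matrix.ProjectiveSpecialLinearGroup (Fin 2) T) := by
      have h1 := LinearGroup.gcd_mul_card_PSL_two (F := F)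
      have h2' := LinearGroup.gcd_mul_card_PSL_two (F := T)
      rw [hcT, ← h1] at h2'
      exact (Nat.eq_of_mul_eq_mul_left (Nat.gcd_pos_of_pos_left _ (by norm_num)) h2').symm
    refine Subgroup.eq_top_of_le_card H ?_
    rw [hcard]
    rcases hiso with ⟨⟨e⟩⟩ | ⟨⟨e⟩⟩
    · exact (Nat.card_congr e.toEquiv).ge
    · exact Nat.card_le_card_of_injective _ (e.symm.injective.comp
        Matrix.ProjectiveSpecialLinearGroup.toPGL_injective)

end Dickson

end Cfsg.Agent.FGS77.SubSp
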