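import Cfsg.Agent.FGS77.SubSp.Rat
import Cfsg.Agent.FGS77.SubSp.Plane

/-!
A group of isometries containing the rational transvections and one more transvection whose centre
has two independent values contains all transvections (helper77).
-/

set_option autoImplicit false
set_option linter.unusedSectionVars false

namespace Cfsg.Agent.FGS77.SubSp

open Matrix Cfsg.Agent.MaxSub

variable {ι : Type} [Fintype ι] [DecidableEq ι] {F : Type*} [Field F] [Fintype F] {F₀ : Subfield F}
variable {f : (ι → F) → (ι → F) → F} {P : GL ι F}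

local notation "j" => jmap F₀ P

/-- The standing hypotheses on the group. -/
structure Over (f : (ι → F) → (ι → F) → F) (F₀ : Subfield F) (P : GL ι F)
    (M : Subgroup (GL ι F)) : Prop where
  form : RatForm f F₀ P
  le : M ≤ isom f
  rat : ∀ (u : ι → F₀) (s : F), s ∈ F₀ → st f (jmap F₀ P u) s ∈ M
  dim : 5 ≤ Fintype.card ι

/-- The root elements with parameter `s` of all rational orthogonal pairs lie in `M`. -/
def Good (f : (ι → F) → (ι → F) → F) (F₀ : Subfield F) (P : GL ι F) (M : Subgroup (GL ι F))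
    (s : F) : Prop :=
  ∀ w e : ι → F₀, f (jmap F₀ P w) (jmap F₀ P e) = 0 →
    sh f (jmap F₀ P w) (jmap F₀ P e) s ∈ M

/-- The transvections of centre `v` with parameter in `F₀` lie in `M`. -/
def RatCentre (f : (ι → F) → (ι → F) → F) (F₀ : Subfield F) (M : Subgroup (GL ι F))
    (v : ι → F) : Prop :=
  ∀ s : F, s ∈ F₀ → st f v s ∈ M

variable {M : Subgroup (GL ι F)} (hO : Over f F₀ P M)
include hO

theorem hsymp : Geo.IsSymplecticForm f := hO.form.symp

theorem conj_st {g : GL ι F} (hg : g ∈ M) {v : ι → F} {c : F} (h : st f v c ∈ M) :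
    st f ((g : Matrix ι ι F) *ᵥ v) c ∈ M :=
  st_conj (hsymp hO) (hO.le hg) v c ▸ mul_mem (mul_mem hg h) (inv_mem hg)

theorem ratCentre_conj {g : GL ι F} (hg : g ∈ M) {v : ι → F} (h : RatCentre f F₀ M v) :
    RatCentre f F₀ M ((g : Matrix ι ι F) *ᵥ v) := fun s hs =>
  st_conj (hsymp hO) (hO.le hg) v s ▸ mul_mem (mul_mem hg (h s hs)) (inv_mem hg)

theorem sh_rat_mem {w e : ι → F₀} (hwe : f (j w) (j e) = 0) {s : F} (hs : s ∈ F₀) :
    sh f (j w) (j e) s ∈ M := by
  rw [← sh_eq_st (hsymp hO) hwe, ← map_add]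
  exact mul_mem (mul_mem (hO.rat _ _ hs) (hO.rat _ _ (neg_mem hs))) (hO.rat _ _ (neg_mem hs))

theorem not_mem_span_iff {e w : ι → F₀} :
    w ∉ Submodule.span F₀ (Set.range ![e]) ↔ ∀ a : F₀, a • e ≠ w := by
  simp [Matrix.range_cons, Matrix.range_empty, Submodule.mem_span_singleton]

/-- Rational transvections move a vector of `e^⊥` outside `⟨e⟩` to any other, fixing `e`. -/
theorem exists_move {e w w' : ι → F₀} (h : f (j e) (j w) = 0) (h' : f (j e) (j w') = 0)
    (hw : w ∉ Submodule.span F₀ (Set.range ![e])) (hw' : w' ∉ Submodule.span F₀ (Set.range ![e])) :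
    ∃ g ∈ M, (g : Matrix ι ι F) *ᵥ j e = j e ∧ (g : Matrix ι ι F) *ᵥ j w = j w' := by
  have hf := hsymp hO
  have hb := hf.bilinear
  have step : ∀ a b : ι → F₀, f (j e) (j a) = 0 → f (j e) (j b) = 0 → f (j a) (j b) ≠ 0 →
      ∃ g ∈ M, (g : Matrix ι ι F) *ᵥ j e = j e ∧ (g : Matrix ι ι F) *ᵥ j a = j b := by
    intro a b ha hb' hab
    refine ⟨st f (j (b - a)) (f (j a) (j b))⁻¹, hO.rat _ _ (inv_mem (hO.form.rat _ _)), ?_, ?_⟩
    · rw [st_mulVec hf, map_sub, form_sub_right hb, hb', ha, sub_self, mul_zero, zero_smul,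
        add_zero]
    · rw [st_mulVec hf, map_sub, form_sub_right hb, hf.alternating, sub_zero, inv_mul_cancel₀ hab,
        one_smul, add_sub_cancel]
  obtain ⟨x, hx, hxw⟩ := exists_dual hO.form ![e] (e := w) hw
  obtain ⟨y, hy, hyw⟩ := exists_dual hO.form ![e] (e := w') hw'
  obtain ⟨z, hz, hz1, hz2⟩ := exists_mem_notMem_notMem
    (P := LinearMap.ker (bmap hO.form e)) (Q := LinearMap.ker (bmap hO.form w))
    (R := LinearMap.ker (bmap hO.form w'))
    ⟨x, (bmap_eq_zero hO.form).mpr (hx 0), fun hc => one_ne_zero (α := F)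
      (hxw.symm.trans ((bmap_eq_zero hO.form).mp hc))⟩
    ⟨y, (bmap_eq_zero hO.form).mpr (hy 0), fun hc => one_ne_zero (α := F)
      (hyw.symm.trans ((bmap_eq_zero hO.form).mp hc))⟩
  rw [LinearMap.mem_ker, bmap_eq_zero] at hz hz1 hz2
  obtain ⟨g, hg, hge, hgw⟩ := step w z h hz hz1
  obtain ⟨g', hg', hge', hgw'⟩ := step z w' hz h' (fun hc => hz2 (swap_zero hf hc))
  exact ⟨g' * g, mul_mem hg' hg, by rw [Units.val_mul, ← mulVec_mulVec, hge, hge'],
    by rw [Units.val_mul, ← mulVec_mulVec, hgw, hgw']⟩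

/-- Rational transvections are transitive on the non-zero rational vectors. -/
theorem exists_move_one {e e' : ι → F₀} (he : e ≠ 0) (he' : e' ≠ 0) :
    ∃ g ∈ M, (g : Matrix ι ι F) *ᵥ j e = j e' := by
  have h0 : f (j (0 : ι → F₀)) (j e) = 0 ∧ f (j (0 : ι → F₀)) (j e') = 0 := by
    simp [form_zero_left (hsymp hO).bilinear]
  obtain ⟨g, hg, -, hge⟩ := exists_move hO h0.1 h0.2
    (by simpa [not_mem_span_iff hO] using fun h => he h)
    (by simpa [not_mem_span_iff hO] using fun h => he' h)
  exact ⟨g, hg, hge⟩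

theorem good_of_pair {w e : ι → F₀} {s : F} (hwe : f (j w) (j e) = 0)
    (hw : w ∉ Submodule.span F₀ (Set.range ![e])) (he : e ≠ 0)
    (hmem : sh f (j w) (j e) s ∈ M) : Good f F₀ P M s := by
  have hf := hsymp hO
  have hnot : ∀ {a b : ι → F₀}, a ∉ Submodule.span F₀ (Set.range ![b]) → a ≠ 0 := fun h e' =>
    h (e' ▸ zero_mem _)
  have hnot' : ∀ {a b : ι → F₀}, a ∉ Submodule.span F₀ (Set.range ![b]) → b ≠ 0 →
      b ∉ Submodule.span F₀ (Set.range ![a]) := by
    intro a b h hb hba
    simp only [Matrix.range_cons, Matrix.range_empty, Set.union_empty,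
      Submodule.mem_span_singleton] at h hba
    obtain ⟨c, rfl⟩ := hba
    have hc : c ≠ 0 := fun h0 => hb (by rw [h0, zero_smul])
    exact h ⟨c⁻¹, by rw [smul_smul, inv_mul_cancel₀ hc, one_smul]⟩
  have hfst : ∀ a b a' : ι → F₀, f (j a) (j b) = 0 → f (j a') (j b) = 0 →
      a ∉ Submodule.span F₀ (Set.range ![b]) → a' ∉ Submodule.span F₀ (Set.range ![b]) →
      sh f (j a) (j b) s ∈ M → sh f (j a') (j b) s ∈ M := by
    intro a b a' h h' ha ha' hm
    obtain ⟨g, hg, hgb, hga⟩ := exists_move hO (swap_zero hf h) (swap_zero hf h') ha ha'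
    rw [← hga, ← hgb, ← conj_sh hf (hO.le hg)]
    exact mul_mem (mul_mem hg hm) (inv_mem hg)
  have hall : ∀ a b : ι → F₀, f (j a) (j b) = 0 → b ≠ 0 →
      a ∉ Submodule.span F₀ (Set.range ![b]) → sh f (j a) (j b) s ∈ M := by
    intro a b hab hb hnab
    obtain ⟨x, hx, hxn⟩ := exists_perp_notMem hO.form ![e, b] ![e, b]
      (by have := hO.dim; omega)
    have hxe : x ∉ Submodule.span F₀ (Set.range ![e]) := fun h => hxn
      (Submodule.span_mono (by simp [Matrix.range_cons]) h)
    have hxb : x ∉ Submodule.span F₀ (Set.range ![b]) := fun h => hxn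
      (Submodule.span_mono (by simp [Matrix.range_cons]) h)
    have he0 : f (j x) (j e) = 0 := swap_zero hf (hx 0)
    have hb0 : f (j x) (j b) = 0 := swap_zero hf (hx 1)
    have h1 := hfst w e x hwe he0 hw hxe hmem
    rw [sh_comm hf he0] at h1
    have h2 := hfst e x b (swap_zero hf he0) (swap_zero hf hb0) (hnot' hxe he) (hnot' hxb hb) h1
    rw [sh_comm hf (swap_zero hf hb0)] at h2
    exact hfst x b a hb0 hab hxb hnab h2
  intro a b hab
  by_cases hb : b = 0
  · subst hb
    rw [map_zero] at hab ⊢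
    have : sh f (j a) 0 s = 1 := gl_ext fun y => by
      rw [sh_mulVec hf hab, form_zero_right hf.bilinear, Units.val_one, one_mulVec]; simp
    rw [this]; exact one_mem _
  by_cases ha : a ∈ Submodule.span F₀ (Set.range ![b])
  swap
  · exact hall a b hab hb ha
  obtain ⟨x, hx, hxb⟩ := exists_perp_notMem hO.form ![b] ![b] (by have := hO.dim; omega)
  have hbx : f (j b) (j x) = 0 := hx 0
  have hax : a + x ∉ Submodule.span F₀ (Set.range ![b]) := fun h => hxb (by
    simpa using sub_mem h ha)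
  have hnx : -x ∉ Submodule.span F₀ (Set.range ![b]) := fun h => hxb (by simpa using neg_mem h)
  have h1 : f (j b) (j (a + x)) = 0 := by
    rw [map_add, hf.bilinear.add_right, swap_zero hf hab, hbx, add_zero]
  have h2 : f (j b) (j (-x)) = 0 := by
    rw [map_neg, form_neg_right hf.bilinear, hbx, neg_zero]
  have h3 : f (j (a + x)) (j (-x)) = 0 := by
    obtain ⟨c, hc⟩ : ∃ c : F₀, c • b = a := by
      simpa [Matrix.range_cons, Matrix.range_empty, Submodule.mem_span_singleton] using ha
    rw [map_neg, form_neg_right hf.bilinear, map_add, hf.bilinear.add_left, hf.alternating, ← hc,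
      f_smul_left hO.form, hbx]
    simp
  have key := sh_mul_right hf h1 h2 h3 s
  rw [← map_add, add_neg_cancel_right, ← sh_comm hf (swap_zero hf h1), ← sh_comm hf (swap_zero hf h2),
    ← sh_comm hf hab] at key
  rw [← key]
  exact mul_mem (hall _ _ (swap_zero hf h1) hb hax) (hall _ _ (swap_zero hf h2) hb hnx)

theorem good_rat {s : F} (hs : s ∈ F₀) : Good f F₀ P M s := fun _ _ h => sh_rat_mem hO h hs

theorem good_add {s t : F} (hs : Good f F₀ P M s) (ht : Good f F₀ P M t) :
    Good f F₀ P M (s + t) := fun w e h => by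
  rw [← sh_add (hsymp hO) h]; exact mul_mem (hs w e h) (ht w e h)

theorem good_neg {s : F} (hs : Good f F₀ P M s) : Good f F₀ P M (-s) := fun w e h => by
  rw [← sh_inv (hsymp hO) h]; exact inv_mem (hs w e h)

theorem good_mul {s t : F} (hs : Good f F₀ P M s) (ht : Good f F₀ P M t) :
    Good f F₀ P M (s * t) := by
  have key : Good f F₀ P M (-(s * t)) := by
    intro w x hwx
    have hf := hsymp hO
    obtain ⟨e, he, hen⟩ := exists_perp_notMem hO.form ![w, x] ![w, x] (by have := hO.dim; omega)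
    obtain ⟨h, hh, heh⟩ := exists_dual hO.form ![w, x] hen
    have hwe : f (j w) (j e) = 0 := he 0
    have hhx : f (j h) (j x) = 0 := swap_zero hf (hh 1)
    rw [← sh_commutator hf hwe hhx (hh 0) hwx (swap_zero hf (he 1)) heh s t]
    exact mul_mem (mul_mem (mul_mem (hs _ _ hwe) (ht _ _ hhx)) (inv_mem (hs _ _ hwe)))
      (inv_mem (ht _ _ hhx))
  simpa using good_neg hO key

theorem good_pow {s : F} (hs : Good f F₀ P M s) : ∀ n : ℕ, Good f F₀ P M (s ^ n)
  | 0 => by rw [pow_zero]; exact good_rat hO (one_mem _)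
  | n + 1 => by rw [pow_succ]; exact good_mul hO (good_pow hs n) hs

theorem good_all (hmax : ∀ T : Subfield F, F₀ ≤ T → T = F₀ ∨ T = ⊤) {s : F} (hs : s ∉ F₀)
    (hg : Good f F₀ P M s) (c : F) : Good f F₀ P M c := by
  let T : Subfield F :=
    { carrier := {t | Good f F₀ P M t}
      zero_mem' := good_rat hO (zero_mem _)
      one_mem' := good_rat hO (one_mem _)
      add_mem' := fun ha hb => good_add hO ha hb
      mul_mem' := fun ha hb => good_mul hO ha hb
      neg_mem' := fun ha => good_neg hO ha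
      inv_mem' := fun a ha => by
        by_cases ha0 : a = 0
        · rw [ha0, _root_.inv_zero]; exact good_rat hO (zero_mem _)
        have hq : 2 ≤ Fintype.card F := Fintype.one_lt_card
        have : a⁻¹ = a ^ (Fintype.card F - 2) := inv_eq_of_mul_eq_one_right (by
          rw [← pow_succ', show Fintype.card F - 2 + 1 = Fintype.card F - 1 by omega,
            FiniteField.pow_card_sub_one_eq_one a ha0])
        show Good f F₀ P M a⁻¹
        rw [this]; exact good_pow hO ha _ }
  have hT : T = ⊤ := (hmax T fun a ha => good_rat hO ha).resolve_left fun h =>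
    hs (h ▸ (show s ∈ T from hg))
  exact (show c ∈ T from hT ▸ trivial)

/-- With all root elements, all rational centres are complete. -/
theorem rat_centres_of_good (hg : ∀ c, Good f F₀ P M c) (u : ι → F₀) (c : F) :
    st f (j u) c ∈ M := by
  have hf := hsymp hO
  by_cases hu : u = 0
  · subst hu
    rw [map_zero, show st f (0 : ι → F) c = 1 by simp [MaxSub.st]]
    exact one_mem _
  have hsq : ∀ t : F, st f (j u) (t * t) ∈ M := by
    intro t
    obtain ⟨z, hz, hzn⟩ := exists_perp_notMem hO.form ![u] ![u] (by have := hO.dim; omega)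
    obtain ⟨h, hh, hzh⟩ := exists_dual hO.form ![u] hzn
    have huz : f (j u) (j z) = 0 := hz 0
    have huh : f (j u) (j h) = 0 := hh 0
    have hτ := hg t u h huh
    have hmove : (sh f (j u) (j h) t : Matrix ι ι F) *ᵥ j z = j z + t • j u := by
      rw [sh_mulVec hf huh, swap_zero hf huz, hzh]
      simp
    have hz1 : st f (j z + t • j u) 1 ∈ M := by
      rw [← hmove, ← st_conj hf (hO.le hτ)]
      exact mul_mem (mul_mem hτ (hO.rat _ _ (one_mem _))) (inv_mem hτ)
    have := mul_mem (inv_mem (mul_mem hz1 (hO.rat z (-1) (neg_mem (one_mem _)))))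
      (hg t z u (swap_zero hf huz))
    rw [st_sh hf] at this
    simpa using st_neg_mem hf this
  by_cases h2 : (2 : F) = 0
  · haveI : CharP F 2 := CharTwo.of_one_ne_zero_of_two_eq_zero one_ne_zero h2
    haveI : Fact (Nat.Prime 2) := ⟨Nat.prime_two⟩
    obtain ⟨t, ht⟩ := (frobeniusEquiv F 2).surjective c
    have := hsq t
    rwa [← sq, show t ^ 2 = c from ht] at this
  · have hc : c = ((c + 1) / 2) * ((c + 1) / 2) + -(((c - 1) / 2) * ((c - 1) / 2)) := by
      field_simp; ring
    rw [hc, ← st_mul hf]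
    exact mul_mem (hsq _) (st_neg_mem hf (hsq _))

/-- A centre with a rational kernel vector gives a root element with a new parameter. -/
theorem exists_good_of_kernel {v : ι → F} (hv : st f v 1 ∈ M)
    (htwo : TwoValues f F₀ P v) {e₀ : ι → F₀} (he₀ : e₀ ≠ 0) (hve₀ : f v (j e₀) = 0) :
    ∃ s, s ∉ F₀ ∧ Good f F₀ P M s := by
  have hf := hsymp hO
  obtain ⟨e, u₁, u₂, he, hve, hu₁, hu₂, ha₁, ha⟩ :=
    exists_kernel_pair hO.form hO.dim htwo he₀ hve₀
  have key : ∀ u z : ι → F₀, f (j e) (j u) = 0 → f (j e) (j z) = 0 → f v (j z) ≠ 0 →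
      Good f F₀ P M (-(f v (j u) * f v (j z))) := by
    intro u z hu hz hvz
    set a := f v (j u)
    set b := f v (j z)
    have hue : f (j u) (j e) = 0 := swap_zero hf hu
    have hze : f (j z) (j e) = 0 := swap_zero hf hz
    have hσ := sh_rat_mem hO hue (one_mem F₀)
    have h1 : st f (v + a • j e) 1 ∈ M := by
      have := conj_st hO hσ hv
      rwa [sh_mulVec hf hue, hve, one_mul, mul_zero, zero_smul, add_zero] at this
    have hτ := hO.rat z 1 (one_mem F₀)
    have h2 : st f (v + b • j z) 1 ∈ M := by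
      have := conj_st hO hτ hv
      rwa [st_mulVec hf, one_mul] at this
    have h3 : st f (v + b • j z + a • j e) 1 ∈ M := by
      have := conj_st hO hτ h1
      rwa [mulVec_add, mulVec_smul, st_mulVec hf, st_mulVec hf, one_mul, one_mul, hz, zero_smul,
        add_zero] at this
    have hd := second_diff hf (v := v) (y := a • j e) (z := j z)
      (by rw [hf.bilinear.smul_right, hve, mul_zero])
      (by rw [hf.bilinear.smul_right, hze, mul_zero])
    set s := -(a * b)
    have hze1 : st f (j z + s • j e) 1 ∈ M := by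
      have hm := mul_mem (mul_mem h3 (st_neg_mem hf h2))
        (inv_mem (mul_mem h1 (st_neg_mem hf hv)))
      rw [hd, smul_smul, show -b * a = s by ring] at hm
      have := mul_mem hm (inv_mem hτ)
      rw [mul_inv_cancel_right] at this
      simpa using st_neg_mem hf this
    obtain ⟨w, hw, hwn⟩ := exists_perp_notMem hO.form ![e, z] ![e, z] (by have := hO.dim; omega)
    have hew : f (j e) (j w) = 0 := hw 0
    have hzw : f (j z) (j w) = 0 := hw 1
    have hzn : z ∉ Submodule.span F₀ (Set.range ![e]) := by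
      rw [not_mem_span_iff hO]
      rintro c rfl
      exact hvz (by simp only [b]; rw [f_smul_right hO.form, hve, mul_zero])
    have hsum : z + w ∉ Submodule.span F₀ (Set.range ![e]) := fun h => hwn (by
      have h1 : z + w ∈ Submodule.span F₀ (Set.range ![e, z]) :=
        Submodule.span_mono (by simp [Matrix.range_cons]) h
      simpa using sub_mem h1 (Submodule.subset_span ⟨1, rfl⟩))
    obtain ⟨g, hg, hge, hgz⟩ := exists_move hO hz
      (by rw [map_add, hf.bilinear.add_right, hz, hew, add_zero]) hzn hsum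
    have hgs : st f (j (z + w) + s • j e) 1 ∈ M := by
      have : (g : Matrix ι ι F) *ᵥ (j z + s • j e) = j (z + w) + s • j e := by
        rw [mulVec_add, mulVec_smul, hgz, hge]
      rw [← this, ← st_conj hf (hO.le hg)]
      exact mul_mem (mul_mem hg hze1) (inv_mem hg)
    have hmem : sh f (j (z + w)) (j e) s * (sh f (j z) (j e) s)⁻¹ ∈ M := by
      have : sh f (j (z + w)) (j e) s * (sh f (j z) (j e) s)⁻¹ =
          st f (j (z + w) + s • j e) 1 * st f (j (z + w)) (-1) *
            (st f (j z + s • j e) 1 * st f (j z) (-1))⁻¹ := by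
        simp only [sh]; group
      rw [this]
      exact mul_mem (mul_mem hgs (hO.rat _ _ (neg_mem (one_mem _))))
        (inv_mem (mul_mem hze1 (hO.rat _ _ (neg_mem (one_mem _)))))
    have hwe : f (j w) (j e) = 0 := swap_zero hf hew
    have hsplit : sh f (j e) (j w) s * sh f (j e) (j z) s = sh f (j e) (j (z + w)) s := by
      rw [sh_mul_right hf hew hz (swap_zero hf hzw), ← map_add, add_comm]
    rw [sh_comm hf hze, sh_comm hf (by rw [map_add, hf.bilinear.add_left, hze, hwe, add_zero]),
      ← hsplit, mul_inv_cancel_right, ← sh_comm hf hwe] at hmem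
    refine good_of_pair hO hwe (fun h => hwn ?_) he hmem
    exact Submodule.span_mono (by simp [Matrix.range_cons]) h
  by_cases h11 : -(f v (j u₁) * f v (j u₁)) ∈ F₀
  · refine ⟨_, fun h12 => ha ?_, key u₂ u₁ hu₂ hu₁ ha₁⟩
    have := div_mem h12 h11
    rwa [neg_div_neg_eq, mul_div_mul_right _ _ ha₁] at this
  · exact ⟨_, h11, key u₁ u₁ hu₁ hu₁ ha₁⟩

/-- In characteristic two an injective centre yields one with a kernel. -/
theorem exists_kernel_of_two (h2 : (2 : F) = 0) {v : ι → F} (hv : st f v 1 ∈ M)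
    (hinj : ∀ u : ι → F₀, u ≠ 0 → f v (j u) ≠ 0) :
    ∃ v', st f v' 1 ∈ M ∧ TwoValues f F₀ P v' ∧ ∃ e : ι → F₀, e ≠ 0 ∧ f v' (j e) = 0 := by
  have hf := hsymp hO
  obtain ⟨u, -, hu⟩ := exists_perp_notMem hO.form (fun i : Fin 0 => i.elim0)
    (fun i : Fin 0 => i.elim0) (by have := hO.dim; omega : 0 + 0 < Fintype.card ι)
  have hu0 : u ≠ 0 := fun h => hu (h ▸ zero_mem _)
  obtain ⟨e, he, hen⟩ := exists_perp_notMem hO.form ![u] ![u] (by have := hO.dim; omega)
  obtain ⟨z, hz, hzn⟩ := exists_perp_notMem hO.form ![u, e] ![u, e] (by have := hO.dim; omega)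
  have hz0 : z ≠ 0 := fun h => hzn (h ▸ zero_mem _)
  have he0 : e ≠ 0 := fun h => hen (h ▸ zero_mem _)
  have hue : f (j u) (j e) = 0 := he 0
  have huz : f (j u) (j z) = 0 := hz 0
  have hez : f (j e) (j z) = 0 := hz 1
  set a := f v (j u)
  set b := f v (j e)
  set t := f v (j z)
  set y := a • j e + b • j u with hy
  have hvy : f v y = 0 := by
    rw [hy, hf.bilinear.add_right, hf.bilinear.smul_right, hf.bilinear.smul_right]
    linear_combination (a * b) * h2
  have hzy : f (j z) y = 0 := by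
    rw [hy, hf.bilinear.add_right, hf.bilinear.smul_right, hf.bilinear.smul_right,
      swap_zero hf huz, swap_zero hf hez, mul_zero, mul_zero, add_zero]
  have h1 : st f (v + y) 1 ∈ M := by
    have := conj_st hO (sh_rat_mem hO hue (one_mem F₀)) hv
    rwa [sh_mulVec hf hue, one_mul, one_mul, add_assoc] at this
  have hτ := hO.rat z 1 (one_mem F₀)
  have h2' : st f (v + t • j z) 1 ∈ M := by
    have := conj_st hO hτ hv
    rwa [st_mulVec hf, one_mul] at this
  have h3 : st f (v + t • j z + y) 1 ∈ M := by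
    have := conj_st hO hτ h1
    rwa [mulVec_add, st_mulVec hf, st_mulVec hf, one_mul, one_mul, swap_zero hf hzy, zero_smul,
      add_zero] at this
  have hd := second_diff hf (v := v) (y := y) (z := j z) hvy hzy
  have hm := mul_mem (mul_mem (mul_mem h3 (st_neg_mem hf h2'))
    (inv_mem (mul_mem h1 (st_neg_mem hf hv)))) (inv_mem hτ)
  rw [hd, mul_inv_cancel_right] at hm
  refine ⟨j z + (-t) • y, by simpa using st_neg_mem hf hm, ?_, e, he0, ?_⟩
  swap
  · rw [hf.bilinear.add_left, hf.bilinear.smul_left, hy, hf.bilinear.add_left,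
      hf.bilinear.smul_left, hf.bilinear.smul_left, hf.alternating, hue, swap_zero hf hez]
    ring
  have hmem : ∀ {x p q : ι → F₀}, x ∈ Submodule.span F₀ (Set.range ![p, q]) →
      ∃ c d : F₀, c • p + d • q = x := fun h => by
    obtain ⟨c, hc⟩ := (Submodule.mem_span_range_iff_exists_fun _).mp h
    rw [Fin.sum_univ_two] at hc
    exact ⟨c 0, c 1, hc⟩
  have hnu : u ∉ Submodule.span F₀ (Set.range ![e, z]) := fun hmemu => by
    obtain ⟨c, d, hcd⟩ := hmem hmemu
    by_cases hd0 : d = 0
    · rw [hd0, zero_smul, add_zero] at hcd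
      refine hen ?_
      have hc : c ≠ 0 := fun h => hu0 (by rw [← hcd, h, zero_smul])
      rw [← inv_smul_smul₀ hc e, hcd]
      exact Submodule.smul_mem _ _ (Submodule.subset_span ⟨0, rfl⟩)
    · refine hzn ?_
      rw [show z = d⁻¹ • (u - c • e) by
        rw [← hcd, add_sub_cancel_left, inv_smul_smul₀ hd0]]
      exact Submodule.smul_mem _ _ (sub_mem (Submodule.subset_span ⟨0, rfl⟩)
        (Submodule.smul_mem _ _ (Submodule.subset_span ⟨1, rfl⟩)))
  have hne : e ∉ Submodule.span F₀ (Set.range ![u, z]) := fun hmeme => by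
    obtain ⟨c, d, hcd⟩ := hmem hmeme
    by_cases hd0 : d = 0
    · rw [hd0, zero_smul, add_zero] at hcd
      exact hen (hcd ▸ Submodule.smul_mem _ _ (Submodule.subset_span ⟨0, rfl⟩))
    · refine hzn ?_
      rw [show z = d⁻¹ • (e - c • u) by
        rw [← hcd, add_sub_cancel_left, inv_smul_smul₀ hd0]]
      exact Submodule.smul_mem _ _ (sub_mem (Submodule.subset_span ⟨1, rfl⟩)
        (Submodule.smul_mem _ _ (Submodule.subset_span ⟨0, rfl⟩)))
  obtain ⟨x₁, hx₁, hex₁⟩ := exists_dual hO.form ![u, z] hne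
  obtain ⟨x₂, hx₂, hux₂⟩ := exists_dual hO.form ![e, z] hnu
  have v1 : f (j z + (-t) • y) (j x₁) = -t * a := by
    rw [hf.bilinear.add_left, hf.bilinear.smul_left, hy, hf.bilinear.add_left,
      hf.bilinear.smul_left, hf.bilinear.smul_left, hex₁]
    rw [show f (j u) (j x₁) = 0 from hx₁ 0, show f (j z) (j x₁) = 0 from hx₁ 1]
    ring
  have v2 : f (j z + (-t) • y) (j x₂) = -t * b := by
    rw [hf.bilinear.add_left, hf.bilinear.smul_left, hy, hf.bilinear.add_left,
      hf.bilinear.smul_left, hf.bilinear.smul_left, hux₂]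
    rw [show f (j e) (j x₂) = 0 from hx₂ 0, show f (j z) (j x₂) = 0 from hx₂ 1]
    ring
  have ht0 : -t ≠ 0 := neg_ne_zero.mpr (hinj z hz0)
  refine ⟨x₁, x₂, ?_, ?_⟩
  · rw [v1]; exact mul_ne_zero ht0 (hinj u hu0)
  · rw [v1, v2, mul_div_mul_left _ _ ht0]
    intro hba
    refine hinj (e - (⟨b / a, hba⟩ : F₀) • u) (sub_ne_zero.mpr fun h => hen
      (h ▸ Submodule.smul_mem _ _ (Submodule.subset_span ⟨0, rfl⟩))) ?_
    rw [map_sub, form_sub_right hf.bilinear, f_smul_right hO.form]
    show b - b / a * a = 0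
    rw [div_mul_cancel₀ _ (hinj u hu0), sub_self]

/-- In odd characteristic an injective centre gives all rational centres. -/
theorem rat_centres_of_odd (p : ℕ) [Fact p.Prime] [CharP F p] (hp : p ≠ 2)
    (hquad : ∀ t u w : F, u ∈ F₀ → w ∈ F₀ → t ^ 2 + u * t + w = 0 → t ∈ F₀)
    (hmax : ∀ T : Subfield F, F₀ ≤ T → T = F₀ ∨ T = ⊤) {v : ι → F} (hv : RatCentre f F₀ M v)
    (htwo : TwoValues f F₀ P v) (u : ι → F₀) (c : F) : st f (j u) c ∈ M := by
  have hf := hsymp hO
  obtain ⟨e, he⟩ : ∃ e, f v (j e) ^ 2 ∉ F₀ := by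
    by_contra hc
    simp only [not_exists, not_not] at hc
    obtain ⟨x₁, x₂, h1, h2⟩ := htwo
    refine h2 ?_
    have h3 := hc (x₁ + x₂)
    rw [map_add, hf.bilinear.add_right] at h3
    have h2' : (2 : F) ≠ 0 := PLocalB.two_ne_zero_char (p := p) hp
    have h4 := div_mem (div_mem (sub_mem (sub_mem h3 (hc x₁)) (hc x₂)) (hc x₁)) (ofNat_mem F₀ 2)
    convert h4 using 1
    field_simp
    ring
  set a := f v (j e)
  have ha : a ≠ 0 := fun h => he (by rw [h, zero_pow two_ne_zero]; exact zero_mem _)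
  have hpair : f v (a⁻¹ • j e) = 1 := by rw [hf.bilinear.smul_right, inv_mul_cancel₀ ha]
  have hall := lower_mem_all p hp F₀ hquad hmax he (M.comap (planeHom hf hpair))
    (fun s hs => by
      rw [Subgroup.mem_comap, planeHom_upper]
      exact hv _ (neg_mem hs))
    (fun s hs => by
      rw [Subgroup.mem_comap, planeHom_lower, st_smul hf,
        show a⁻¹ * a⁻¹ * (a ^ 2 * s) = s by field_simp]
      exact hO.rat e s hs)
  have hee : ∀ c, st f (j e) c ∈ M := fun c => by
    have := hall (a ^ 2 * c)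
    rw [Subgroup.mem_comap, planeHom_lower, st_smul hf,
      show a⁻¹ * a⁻¹ * (a ^ 2 * c) = c by field_simp] at this
    exact this
  by_cases hu : u = 0
  · subst hu
    rw [map_zero, show st f (0 : ι → F) c = 1 by simp [MaxSub.st]]
    exact one_mem _
  have he0 : e ≠ 0 := fun h => ha (by
    simp only [a, h, map_zero, form_zero_right hf.bilinear])
  obtain ⟨g, hg, hge⟩ := exists_move_one hO he0 hu
  rw [← hge]
  exact conj_st hO hg (hee c)

/-- All rational centres are complete. -/
theorem rat_centres (hmax : ∀ T : Subfield F, F₀ ≤ T → T = F₀ ∨ T = ⊤)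
    (hquad : (∃ v : ι → F, ∀ u : ι → F₀, u ≠ 0 → f v (j u) ≠ 0) →
      ∀ t u w : F, u ∈ F₀ → w ∈ F₀ → t ^ 2 + u * t + w = 0 → t ∈ F₀)
    {v : ι → F} (hv : RatCentre f F₀ M v) (htwo : TwoValues f F₀ P v) (u : ι → F₀) (c : F) :
    st f (j u) c ∈ M := by
  have fin : ∀ w, st f w 1 ∈ M → TwoValues f F₀ P w →
      (∃ e : ι → F₀, e ≠ 0 ∧ f w (j e) = 0) → st f (j u) c ∈ M := by
    rintro w hw hw2 ⟨e, he, hwe⟩
    obtain ⟨s, hs, hg⟩ := exists_good_of_kernel hO hw hw2 he hwe
    exact rat_centres_of_good hO (good_all hO hmax hs hg) u c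
  by_cases hk : ∃ e : ι → F₀, e ≠ 0 ∧ f v (j e) = 0
  · exact fin v (hv 1 (one_mem _)) htwo hk
  simp only [not_exists, not_and] at hk
  obtain ⟨p, hp⟩ := CharP.exists F
  haveI : Fact p.Prime := ⟨CharP.char_is_prime F p⟩
  by_cases hp2 : p = 2
  · subst hp2
    obtain ⟨w, hw, hw2, hwe⟩ := exists_kernel_of_two hO (CharP.cast_eq_zero F 2) (hv 1 (one_mem _))
      fun e he => hk e he
    exact fin w hw hw2 hwe
  · exact rat_centres_of_odd hO p hp2 (hquad ⟨v, fun e he => hk e he⟩) hmax hv htwo u c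

/-- Complete rational centres give complete centres everywhere. -/
theorem all_centres (h4 : 4 ≤ Fintype.card F) (hrc : ∀ (u : ι → F₀) (c : F), st f (j u) c ∈ M)
    (v : ι → F) : v ∈ centres f M := by
  classical
  have hf := hsymp hO
  have hzero : (0 : ι → F) ∈ centres f M := fun c => by simpa [MaxSub.st] using one_mem M
  have key : ∀ v ∈ centres f M, ∀ (w : ι → F₀) (a : F), v + a • j w ∈ centres f M := by
    intro v hv w a
    have hw : j w ∈ centres f M := fun c => hrc w c
    by_cases hv0 : v = 0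
    · rw [hv0, zero_add]; exact smul_mem_centres hf hw a
    by_cases hw0 : j w = 0
    · rwa [hw0, smul_zero, add_zero]
    by_cases hu : v + a • j w = 0
    · rw [hu]; exact hzero
    by_cases hvw : f v (j w) ≠ 0
    · exact add_smul_mem_centres hf hv hw hvw a
    rw [not_not] at hvw
    have hne : ∀ x : ι → F, x ≠ 0 → ∃ p : ι → F₀, f x (j p) ≠ 0 := fun x hx => by
      by_contra hc
      simp only [not_exists, not_not] at hc
      exact hx (eq_zero_of_form hO.form hc)
    obtain ⟨p, -, hpv, hpw⟩ := exists_mem_notMem_notMem (P := (⊤ : Submodule F₀ (ι → F₀)))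
      (Q := LinearMap.ker (phi hO.form v)) (R := LinearMap.ker (phi hO.form (j w)))
      (let ⟨p, hp⟩ := hne v hv0; ⟨p, trivial, hp⟩)
      (let ⟨p, hp⟩ := hne _ hw0; ⟨p, trivial, hp⟩)
    simp only [LinearMap.mem_ker, phi_apply] at hpv hpw
    have hp0 : j p ≠ 0 := fun h => hpv (by rw [h, form_zero_right hf.bilinear])
    obtain ⟨q, -, hqp, hqu⟩ := exists_mem_notMem_notMem (P := (⊤ : Submodule F₀ (ι → F₀)))
      (Q := LinearMap.ker (phi hO.form (j p))) (R := LinearMap.ker (phi hO.form (v + a • j w)))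
      (let ⟨q, hq⟩ := hne _ hp0; ⟨q, trivial, hq⟩)
      (let ⟨q, hq⟩ := hne _ hu; ⟨q, trivial, hq⟩)
    simp only [LinearMap.mem_ker, phi_apply] at hqp hqu
    let bad : (ι → F) → F := fun x => -f x (j p) / f x (j q)
    obtain ⟨l, hl⟩ : ∃ l : F, l ∉ ({bad v, bad (j w), bad (v + a • j w)} : Finset F) := by
      by_contra hc
      simp only [not_exists, not_not] at hc
      have := Finset.card_le_card (fun l _ => hc l : (Finset.univ : Finset F) ⊆ _)
      have h3 := Finset.card_le_three (a := bad v) (b := bad (j w)) (c := bad (v + a • j w))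
      rw [Finset.card_univ] at this
      omega
    simp only [Finset.mem_insert, Finset.mem_singleton, not_or] at hl
    have hne' : ∀ x, l ≠ bad x → (f x (j q) = 0 → f x (j p) ≠ 0) →
        f x (j p + l • j q) ≠ 0 := by
      intro x hx hpq h
      rw [hf.bilinear.add_right, hf.bilinear.smul_right] at h
      by_cases hq : f x (j q) = 0
      · exact hpq hq (by simpa [hq] using h)
      · exact hx (by simp only [bad]; rw [eq_div_iff hq]; linear_combination h)
    set h := j p + l • j q
    have hh : h ∈ centres f M :=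
      add_smul_mem_centres hf (fun c => hrc p c) (fun c => hrc q c) hqp l
    have g1 : f v h ≠ 0 := hne' v hl.1 fun _ => hpv
    have g2 : f (j w) h ≠ 0 := hne' _ hl.2.1 fun _ => hpw
    have g3 : f (v + a • j w) h ≠ 0 := hne' _ hl.2.2 fun hq => absurd hq hqu
    have c1 := add_smul_mem_centres hf hv hh g1 1
    rw [one_smul] at c1
    have c2 := add_smul_mem_centres hf c1 hw (by
      rw [hf.bilinear.add_left, hvw, zero_add, swap hf]; exact neg_ne_zero.mpr g2) a
    have c3 := add_smul_mem_centres hf c2 hh (by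
      rw [show v + h + a • j w = (v + a • j w) + h by abel, hf.bilinear.add_left, hf.alternating,
        add_zero]
      exact g3) (-1)
    convert c3 using 1
    module
  suffices ∀ s : Finset ι, ∀ x : ι → F,
      ∑ i ∈ s, x i • ((P : Matrix ι ι F) *ᵥ Pi.single i 1) ∈ centres f M by
    have h := this Finset.univ (((P⁻¹ : GL ι F) : Matrix ι ι F) *ᵥ v)
    simp_rw [← mulVec_smul] at h
    rwa [← mulVec_sum, ← pi_eq_sum_univ', mulVec_inv_mulVec] at h
  intro s
  induction s using Finset.induction_on with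
  | empty => intro x; rw [Finset.sum_empty]; exact hzero
  | insert i s hi ih =>
    intro x
    rw [Finset.sum_insert hi, add_comm, ← jmap_single (F₀ := F₀)]
    exact key _ (ih x) _ _

/-- The whole isometry group lies in `M`. -/
theorem isom_le (h4 : 4 ≤ Fintype.card F) (hmax : ∀ T : Subfield F, F₀ ≤ T → T = F₀ ∨ T = ⊤)
    (hquad : (∃ v : ι → F, ∀ u : ι → F₀, u ≠ 0 → f v (j u) ≠ 0) →
      ∀ t u w : F, u ∈ F₀ → w ∈ F₀ → t ^ 2 + u * t + w = 0 → t ∈ F₀)
    {v : ι → F} (hv : RatCentre f F₀ M v) (htwo : TwoValues f F₀ P v) : isom f ≤ M :=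
  isom_le_of_st_mem (hsymp hO) fun w c =>
    all_centres hO h4 (rat_centres hO hmax hquad hv htwo) w c

end Cfsg.Agent.FGS77.SubSp
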