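import Cfsg.Agent.MaxSub.Alt

/-!
Long and short root elements of a symplectic form, and the identities between them (helper77).
-/

set_option autoImplicit false
set_option linter.unusedSectionVars false

namespace Cfsg.Agent.FGS77.SubSp

open Matrix Cfsg.Agent.MaxSub

variable {ι : Type} [Fintype ι] [DecidableEq ι] {F : Type*} [Field F]
variable {f : (ι → F) → (ι → F) → F}

/-- The short root element `x ↦ x + s (f(x,w) e + f(x,e) w)` of an orthogonal pair `w`, `e`. -/
noncomputable def sh (f : (ι → F) → (ι → F) → F) (w e : ι → F) (s : F) : GL ι F :=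
  st f (w + s • e) 1 * st f w (-1) * st f e (-(s * s))

variable (hf : Geo.IsSymplecticForm f)
include hf

omit [DecidableEq ι] [Fintype ι] in
theorem swap (x y : ι → F) : f x y = -f y x := hf.skew x y

omit [DecidableEq ι] [Fintype ι] in
theorem swap_zero {x y : ι → F} (h : f x y = 0) : f y x = 0 := by
  rw [swap hf y x, h, neg_zero]

theorem st_zero_coeff (v : ι → F) : st f v 0 = 1 := by
  refine gl_ext fun x => ?_
  rw [st_mulVec hf, zero_mul, zero_smul, add_zero, Units.val_one, one_mulVec]

theorem st_mul (v : ι → F) (a b : F) : st f v a * st f v b = st f v (a + b) := by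
  refine gl_ext fun x => ?_
  rw [Units.val_mul, ← mulVec_mulVec, st_mulVec hf, st_mulVec hf, st_mulVec hf,
    hf.bilinear.add_left, hf.bilinear.smul_left, hf.alternating]
  module

theorem st_inv (v : ι → F) (a : F) : (st f v a)⁻¹ = st f v (-a) :=
  inv_eq_of_mul_eq_one_right (by rw [st_mul hf, add_neg_cancel, st_zero_coeff hf])

theorem st_neg_mem {M : Subgroup (GL ι F)} {v : ι → F} {a : F} (h : st f v a ∈ M) :
    st f v (-a) ∈ M := st_inv hf v a ▸ inv_mem h

theorem st_smul (v : ι → F) (a c : F) : st f (a • v) c = st f v (a * a * c) := by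
  refine gl_ext fun x => ?_
  rw [st_mulVec hf, st_mulVec hf, hf.bilinear.smul_right]
  module

theorem sh_mulVec {w e : ι → F} (hwe : f w e = 0) (s : F) (x : ι → F) :
    (sh f w e s : Matrix ι ι F) *ᵥ x = x + (s * f x w) • e + (s * f x e) • w := by
  have hew : f e w = 0 := swap_zero hf hwe
  simp only [sh, Units.val_mul, ← mulVec_mulVec, st_mulVec hf, hf.bilinear.add_left,
    hf.bilinear.add_right, hf.bilinear.smul_left, hf.bilinear.smul_right, hf.alternating, hwe, hew]
  module

theorem sh_mem_isom (w e : ι → F) (s : F) : sh f w e s ∈ isom f :=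
  mul_mem (mul_mem (st_mem_isom hf _ _) (st_mem_isom hf _ _)) (st_mem_isom hf _ _)

theorem sh_add {w e : ι → F} (hwe : f w e = 0) (s t : F) :
    sh f w e s * sh f w e t = sh f w e (s + t) := by
  refine gl_ext fun x => ?_
  have hew : f e w = 0 := swap_zero hf hwe
  simp only [Units.val_mul, ← mulVec_mulVec, sh_mulVec hf hwe, hf.bilinear.add_left,
    hf.bilinear.smul_left, hf.alternating, hwe, hew]
  module

theorem sh_zero_coeff {w e : ι → F} (hwe : f w e = 0) : sh f w e 0 = 1 := by
  refine gl_ext fun x => ?_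
  rw [sh_mulVec hf hwe, Units.val_one, one_mulVec]
  module

theorem sh_inv {w e : ι → F} (hwe : f w e = 0) (s : F) : (sh f w e s)⁻¹ = sh f w e (-s) :=
  inv_eq_of_mul_eq_one_right (by rw [sh_add hf hwe, add_neg_cancel, sh_zero_coeff hf hwe])

theorem sh_comm {w e : ι → F} (hwe : f w e = 0) (s : F) : sh f w e s = sh f e w s := by
  refine gl_ext fun x => ?_
  rw [sh_mulVec hf hwe, sh_mulVec hf (swap_zero hf hwe)]
  module

theorem sh_eq_st {w e : ι → F} (hwe : f w e = 0) (c : F) :
    st f (w + e) c * st f w (-c) * st f e (-c) = sh f w e c := by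
  have hew : f e w = 0 := swap_zero hf hwe
  refine gl_ext fun x => ?_
  simp only [sh_mulVec hf hwe, Units.val_mul, ← mulVec_mulVec, st_mulVec hf, hf.bilinear.add_left,
    hf.bilinear.add_right, hf.bilinear.smul_left, hf.alternating, hwe, hew]
  module

theorem sh_mul_right {w e e' : ι → F} (h : f w e = 0) (h' : f w e' = 0) (h'' : f e e' = 0)
    (s : F) : sh f w e s * sh f w e' s = sh f w (e + e') s := by
  have hh : f w (e + e') = 0 := by rw [hf.bilinear.add_right, h, h', add_zero]
  refine gl_ext fun x => ?_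
  simp only [sh_mulVec hf hh, Units.val_mul, ← mulVec_mulVec, sh_mulVec hf h, sh_mulVec hf h',
    hf.bilinear.add_left, hf.bilinear.add_right, hf.bilinear.smul_left, hf.alternating,
    swap_zero hf h, swap_zero hf h', swap_zero hf h'', h, h'', h']
  module

theorem conj_sh {g : GL ι F} (hg : g ∈ isom f) (w e : ι → F) (s : F) :
    g * sh f w e s * g⁻¹ = sh f ((g : Matrix ι ι F) *ᵥ w) ((g : Matrix ι ι F) *ᵥ e) s := by
  simp only [sh, ← mulVec_smul, ← mulVec_add, ← st_conj hf hg]
  group

theorem st_sh {z e : ι → F} (t : F) :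
    (st f (z + t • e) 1 * st f z (-1))⁻¹ * sh f z e t = st f e (-(t * t)) := by
  rw [sh]; group

/-- The second difference of the transvection map. -/
theorem second_diff {v y z : ι → F} (hvy : f v y = 0) (hzy : f z y = 0) :
    st f (v + f v z • z + y) 1 * st f (v + f v z • z) (-1) *
        (st f (v + y) 1 * st f v (-1))⁻¹ =
      st f (z + (-f v z) • y) (-1) * st f z 1 := by
  have hyv := swap_zero hf hvy
  have hyz := swap_zero hf hzy
  have hzv : f z v = -f v z := swap hf z v
  rw [_root_.mul_inv_rev, st_inv hf, st_inv hf, neg_neg]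
  refine gl_ext fun x => ?_
  simp only [Units.val_mul, ← mulVec_mulVec, st_mulVec hf, hf.bilinear.add_left,
    hf.bilinear.add_right, hf.bilinear.smul_left, hf.bilinear.smul_right, hf.alternating, hvy,
    hzy, hyv, hyz, hzv]
  module

theorem sh_commutator {w e h x : ι → F} (hwe : f w e = 0) (hhx : f h x = 0) (hwh : f w h = 0)
    (hwx : f w x = 0) (hex : f e x = 0) (heh : f e h = 1) (s t : F) :
    sh f w e s * sh f h x t * (sh f w e s)⁻¹ * (sh f h x t)⁻¹ = sh f w x (-(s * t)) := by
  refine gl_ext fun y => ?_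
  have hhe : f h e = -1 := by rw [swap hf h e, heh]
  simp only [sh_inv hf hwe, sh_inv hf hhx, sh_mulVec hf hwx, Units.val_mul, ← mulVec_mulVec,
    sh_mulVec hf hwe, sh_mulVec hf hhx, hf.bilinear.add_left, hf.bilinear.smul_left,
    hf.alternating, hwe, hhx, hwh, hwx, hex, heh, hhe, swap_zero hf hwe, swap_zero hf hhx,
    swap_zero hf hwh, swap_zero hf hwx, swap_zero hf hex]
  module

end Cfsg.Agent.FGS77.SubSp
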