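import Cfsg.Agent.FGS77.SubSp.Ops

/-!
The rational structure of a symplectic form over a subfield: linear algebra (helper77).
-/

set_option autoImplicit false
set_option linter.unusedSectionVars false

namespace Cfsg.Agent.FGS77.SubSp

open Matrix Cfsg.Agent.MaxSub

variable {ι : Type} [Fintype ι] [DecidableEq ι] {F : Type*} [Field F] {F₀ : Subfield F}

/-- The embedding of `ι → F₀` as the span over `F₀` of the columns of `P`. -/
def jmap (F₀ : Subfield F) (P : GL ι F) : (ι → F₀) →ₗ[F₀] (ι → F) where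
  toFun u := (P : Matrix ι ι F) *ᵥ fun i => (u i : F)
  map_add' u w := by rw [← mulVec_add]; rfl
  map_smul' s u := by
    rw [RingHom.id_apply]
    show (P : Matrix ι ι F) *ᵥ (fun i => ((s • u) i : F)) =
      (s : F) • ((P : Matrix ι ι F) *ᵥ fun i => (u i : F))
    rw [← mulVec_smul]; rfl

theorem jmap_smul (P : GL ι F) (s : F₀) (u : ι → F₀) :
    jmap F₀ P (s • u) = (s : F) • jmap F₀ P u := map_smul (jmap F₀ P) s u

theorem jmap_single (P : GL ι F) (i : ι) :
    jmap F₀ P (Pi.single i 1) = (P : Matrix ι ι F) *ᵥ Pi.single i 1 := by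
  show (P : Matrix ι ι F) *ᵥ _ = _
  congr 1
  funext j
  by_cases h : j = i
  · subst h; simp
  · simp [Pi.single_eq_of_ne h]

theorem jmap_injective (P : GL ι F) : Function.Injective (jmap F₀ P) := fun _ _ h =>
  funext fun i => Subtype.ext (congrFun (mulVec_injective P h) i)

/-- The form is rational on the span of the columns of `P`. -/
structure RatForm (f : (ι → F) → (ι → F) → F) (F₀ : Subfield F) (P : GL ι F) : Prop where
  symp : Geo.IsSymplecticForm f
  rat : ∀ u w : ι → F₀, f (jmap F₀ P u) (jmap F₀ P w) ∈ F₀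

variable {f : (ι → F) → (ι → F) → F} {P : GL ι F} (hR : RatForm f F₀ P)

local notation "j" => jmap F₀ P

include hR

theorem bil : Geo.IsBilinearForm f := hR.symp.bilinear

theorem f_smul_left (s : F₀) (u : ι → F₀) (v : ι → F) : f (j (s • u)) v = s * f (j u) v := by
  rw [jmap_smul, (bil hR).smul_left]

theorem f_smul_right (s : F₀) (u : ι → F₀) (v : ι → F) : f v (j (s • u)) = s * f v (j u) := by
  rw [jmap_smul, (bil hR).smul_right]

/-- The rational form as a map to the dual. -/
def bmap : (ι → F₀) →ₗ[F₀] Module.Dual F₀ (ι → F₀) :=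
  LinearMap.mk₂ F₀ (fun u w => (⟨f (j u) (j w), hR.rat u w⟩ : F₀))
    (fun u u' w => Subtype.ext (by simp [map_add, (bil hR).add_left]))
    (fun s u w => Subtype.ext (by simp [Subfield.smul_def, (bil hR).smul_left]))
    (fun u w w' => Subtype.ext (by simp [map_add, (bil hR).add_right]))
    (fun s u w => Subtype.ext (by simp [Subfield.smul_def, (bil hR).smul_right]))

theorem coe_bmap (u w : ι → F₀) : ((bmap hR u w : F₀) : F) = f (j u) (j w) := rfl

theorem bmap_eq_zero {u w : ι → F₀} : bmap hR u w = 0 ↔ f (j u) (j w) = 0 := by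
  rw [← coe_bmap hR]; exact ZeroMemClass.coe_eq_zero.symm

/-- A linear functional vanishing on the rational vectors vanishes. -/
theorem eq_zero_of_jmap (L : (ι → F) →ₗ[F] F) (h : ∀ u, L (j u) = 0) (x : ι → F) : L x = 0 := by
  rw [← mulVec_inv_mulVec P x, pi_eq_sum_univ' (((P⁻¹ : GL ι F) : Matrix ι ι F) *ᵥ x), mulVec_sum,
    map_sum]
  refine Finset.sum_eq_zero fun i _ => ?_
  rw [mulVec_smul, map_smul, ← jmap_single (F₀ := F₀), h, smul_zero]

theorem eq_zero_of_form {v : ι → F} (h : ∀ u, f v (j u) = 0) : v = 0 := by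
  by_contra hv
  obtain ⟨x, hx⟩ := (hR.symp.nondegenerate v hv).2
  exact hx (eq_zero_of_jmap hR (rmap (bil hR) v) h x)

theorem bmap_injective : Function.Injective (bmap hR) := by
  rw [← LinearMap.ker_eq_bot, Submodule.eq_bot_iff]
  intro u hu
  refine jmap_injective P ((eq_zero_of_form hR (v := j u) fun w => ?_).trans (map_zero _).symm)
  exact (bmap_eq_zero hR).mp (LinearMap.congr_fun (LinearMap.mem_ker.mp hu) w)

theorem bmap_surjective : Function.Surjective (bmap hR) :=
  (LinearMap.injective_iff_surjective_of_finrank_eq_finrank (Subspace.dual_finrank_eq).symm).mp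
    (bmap_injective hR)

/-- A vector orthogonal to a list of vectors, pairing to one with a vector outside their span. -/
theorem exists_dual {k : ℕ} (T : Fin k → (ι → F₀)) {e : ι → F₀}
    (he : e ∉ Submodule.span F₀ (Set.range T)) :
    ∃ x, (∀ i, f (j (T i)) (j x) = 0) ∧ f (j e) (j x) = 1 := by
  classical
  have h : ¬ ⨅ i, LinearMap.ker (bmap hR (T i)) ≤ LinearMap.ker (bmap hR e) := fun hle => by
    have := mem_span_of_iInf_ker_le_ker hle
    rw [Set.range_comp' (g := bmap hR), ← Submodule.map_span, Submodule.mem_map] at this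
    obtain ⟨y, hy, hye⟩ := this
    exact he (bmap_injective hR hye ▸ hy)
  obtain ⟨x, hx, hxe⟩ := SetLike.not_le_iff_exists.mp h
  rw [LinearMap.mem_ker] at hxe
  refine ⟨(bmap hR e x)⁻¹ • x, fun i => ?_, ?_⟩
  · refine (bmap_eq_zero hR).mp ?_
    rw [map_smul, LinearMap.mem_ker.mp ((Submodule.mem_iInf _).mp hx i), smul_zero]
  · rw [← coe_bmap hR, map_smul, smul_eq_mul, inv_mul_cancel₀ hxe, OneMemClass.coe_one]

theorem exists_dual_one {e : ι → F₀} (he : e ≠ 0) : ∃ x, f (j e) (j x) = 1 := by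
  obtain ⟨x, -, hx⟩ := exists_dual hR (fun i : Fin 0 => i.elim0) (e := e) (by simpa using he)
  exact ⟨x, hx⟩

/-- A vector orthogonal to `k` vectors and outside the span of `l` others, when `k + l < dim`. -/
theorem exists_perp_notMem {k l : ℕ} (T : Fin k → (ι → F₀)) (S : Fin l → (ι → F₀))
    (h : k + l < Fintype.card ι) :
    ∃ x, (∀ i, f (j (T i)) (j x) = 0) ∧ x ∉ Submodule.span F₀ (Set.range S) := by
  by_contra hc
  simp only [not_exists, not_and, not_not] at hc
  let L : (ι → F₀) →ₗ[F₀] (Fin k → F₀) := LinearMap.pi fun i => bmap hR (T i)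
  have hle : LinearMap.ker L ≤ Submodule.span F₀ (Set.range S) := fun x hx =>
    hc x fun i => (bmap_eq_zero hR).mp (congrFun (LinearMap.mem_ker.mp hx) i)
  have h1 := LinearMap.finrank_range_add_finrank_ker L
  have h2 := Submodule.finrank_le (LinearMap.range L)
  have h3 := Submodule.finrank_mono hle
  have h4 := finrank_range_le_card (R := F₀) S
  rw [Set.finrank] at h4
  simp at h1 h2 h4
  omega

/-- Pairing with a fixed vector, on rational vectors. -/
def phi (v : ι → F) : (ι → F₀) →ₗ[F₀] F where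
  toFun u := f v (j u)
  map_add' u w := by rw [map_add, (bil hR).add_right]
  map_smul' s u := by rw [f_smul_right hR, RingHom.id_apply]; rfl

theorem phi_apply (v : ι → F) (u : ι → F₀) : phi hR v u = f v (j u) := rfl

end Cfsg.Agent.FGS77.SubSp

namespace Cfsg.Agent.FGS77.SubSp

open Matrix Cfsg.Agent.MaxSub

variable {ι : Type} [Fintype ι] [DecidableEq ι] {F : Type*} [Field F] {F₀ : Subfield F}

/-- The values on rational vectors are not all `F₀`-multiples of one value. -/
def TwoValues (f : (ι → F) → (ι → F) → F) (F₀ : Subfield F) (P : GL ι F) (v : ι → F) : Prop :=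
  ∃ x₁ x₂, f v (jmap F₀ P x₁) ≠ 0 ∧ f v (jmap F₀ P x₂) / f v (jmap F₀ P x₁) ∉ F₀

variable {f : (ι → F) → (ι → F) → F} {P : GL ι F} (hR : RatForm f F₀ P)
include hR

local notation "j" => jmap F₀ P

/-- Without two values a vector is a multiple of a rational one. -/
theorem exists_smul_of_not_twoValues {v : ι → F} (h : ¬ TwoValues f F₀ P v) :
    ∃ (a : F) (q : ι → F₀), v = a • j q := by
  simp only [TwoValues, not_exists, not_and, not_not] at h
  by_cases hv : v = 0
  · exact ⟨0, 0, by rw [hv, zero_smul]⟩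
  obtain ⟨x₁, hx₁⟩ : ∃ x₁, f v (j x₁) ≠ 0 := by
    by_contra hc
    simp only [not_exists, not_not] at hc
    exact hv (eq_zero_of_form hR hc)
  let a := f v (j x₁)
  let L : Module.Dual F₀ (ι → F₀) :=
    { toFun := fun u => ⟨f v (j u) / a, h x₁ u hx₁⟩
      map_add' := fun u w => Subtype.ext (by simp [map_add, (bil hR).add_right, add_div])
      map_smul' := fun s u => Subtype.ext (by simp [Subfield.smul_def, (bil hR).smul_right, mul_div_assoc]) }
  obtain ⟨q, hq⟩ := bmap_surjective hR L
  refine ⟨a, q, sub_eq_zero.mp (eq_zero_of_form hR fun u => ?_)⟩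
  have e : f (j q) (j u) = f v (j u) / a :=
    congrArg Subtype.val (LinearMap.congr_fun hq u)
  rw [form_sub_left (bil hR), (bil hR).smul_left, e, mul_div_cancel₀ _ hx₁, sub_self]

/-- A kernel vector whose orthogonal still carries two values. -/
theorem exists_kernel_pair (hn : 5 ≤ Fintype.card ι) {v : ι → F} (htwo : TwoValues f F₀ P v)
    {e₀ : ι → F₀} (he₀ : e₀ ≠ 0) (hv₀ : f v (j e₀) = 0) :
    ∃ e u₁ u₂, e ≠ 0 ∧ f v (j e) = 0 ∧ f (j e) (j u₁) = 0 ∧ f (j e) (j u₂) = 0 ∧
      f v (j u₁) ≠ 0 ∧ f v (j u₂) / f v (j u₁) ∉ F₀ := by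
  by_contra hc
  -- on the orthogonal of a kernel vector the values lie on one line
  have hline : ∀ e, e ≠ 0 → f v (j e) = 0 →
      ∃ a : F, ∀ u, f (j e) (j u) = 0 → ∃ c : F₀, f v (j u) = c * a := by
    intro e he hve
    by_cases hz : ∀ u, f (j e) (j u) = 0 → f v (j u) = 0
    · exact ⟨0, fun u hu => ⟨0, by rw [hz u hu, mul_zero]⟩⟩
    simp only [not_forall] at hz
    obtain ⟨u₁, hu₁, hu₁v⟩ := hz
    refine ⟨f v (j u₁), fun u hu => ⟨⟨f v (j u) / f v (j u₁), ?_⟩, (div_mul_cancel₀ _ hu₁v).symm⟩⟩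
    by_contra hn'
    exact hc ⟨e, u₁, u, he, hve, hu₁, hu, hu₁v, hn'⟩
  -- the kernel is totally isotropic
  let K := LinearMap.ker (phi hR v)
  have hK : ∀ e, e ∈ K ↔ f v (j e) = 0 := fun e => Iff.rfl
  have hiso : ∀ e ∈ K, ∀ e' ∈ K, f (j e) (j e') = 0 := by
    intro e he e' he'
    by_contra hne
    have he0 : e ≠ 0 := fun h => hne (by rw [h, map_zero, form_zero_left (bil hR)])
    obtain ⟨a, ha⟩ := hline e he0 ((hK e).mp he)
    have hall : ∀ u, ∃ c : F₀, f v (j u) = c * a := fun u => by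
      set t : F₀ := bmap hR e u / bmap hR e e'
      have hperp : f (j e) (j (u - t • e')) = 0 := (bmap_eq_zero hR).mp (by
        rw [map_sub, map_smul, smul_eq_mul,
          div_mul_cancel₀ _ (fun h => hne ((bmap_eq_zero hR).mp h)), sub_self])
      obtain ⟨c, hc'⟩ := ha _ hperp
      exact ⟨c, by rwa [map_sub, form_sub_right (bil hR), f_smul_right hR, (hK e').mp he',
        mul_zero, sub_zero] at hc'⟩
    obtain ⟨x₁, x₂, hx₁, hx₂⟩ := htwo
    obtain ⟨c₁, h₁⟩ := hall x₁
    obtain ⟨c₂, h₂⟩ := hall x₂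
    rw [h₁] at hx₁
    refine hx₂ ?_
    rw [h₁, h₂, mul_div_mul_right _ _ (right_ne_zero_of_mul hx₁)]
    exact div_mem c₂.2 c₁.2
  -- hence its dimension is at most two
  obtain ⟨a, ha⟩ := hline e₀ he₀ hv₀
  obtain ⟨h, heh⟩ := exists_dual_one hR he₀
  have hrange : LinearMap.range (phi hR v) ≤
      Submodule.span F₀ (Set.range ![a, f v (j h)]) := by
    rintro _ ⟨u, rfl⟩
    set t : F₀ := bmap hR e₀ u
    have hperp : f (j e₀) (j (u - t • h)) = 0 := (bmap_eq_zero hR).mp (Subtype.ext (by
      rw [map_sub, map_smul, smul_eq_mul, Subfield.coe_sub, Subfield.coe_mul, coe_bmap, coe_bmap,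
        heh, mul_one, sub_self, ZeroMemClass.coe_zero]))
    obtain ⟨c, hc'⟩ := ha _ hperp
    have : phi hR v u = c • a + t • f v (j h) := by
      rw [map_sub, form_sub_right (bil hR), f_smul_right hR, sub_eq_iff_eq_add] at hc'
      exact hc'
    rw [this]
    exact add_mem (Submodule.smul_mem _ _ (Submodule.subset_span ⟨0, rfl⟩))
      (Submodule.smul_mem _ _ (Submodule.subset_span ⟨1, rfl⟩))
  have h1 := LinearMap.finrank_range_add_finrank_ker (phi hR v)
  haveI := FiniteDimensional.span_of_finite F₀ (Set.finite_range ![a, f v (j h)])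
  have h2 := Submodule.finrank_mono hrange
  have h3 := finrank_range_le_card (R := F₀) ![a, f v (j h)]
  rw [Set.finrank] at h3
  have h4 : (K.map (bmap hR)) ≤ K.dualAnnihilator := by
    rintro _ ⟨e, he, rfl⟩
    rw [Submodule.mem_dualAnnihilator]
    exact fun e' he' => (bmap_eq_zero hR).mpr (hiso e he e' he')
  have h5 := Submodule.finrank_mono h4
  rw [← (Submodule.equivMapOfInjective _ (bmap_injective hR) K).finrank_eq] at h5
  have h6 := Subspace.finrank_add_finrank_dualAnnihilator_eq K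
  simp [K] at h1 h3 h5 h6
  omega

end Cfsg.Agent.FGS77.SubSp
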